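/-
Sections of the derived series of a finite p-group.
-/
import Mathlib.GroupTheory.Nilpotent
import Mathlib.GroupTheory.PGroup
import Mathlib.GroupTheory.Solvable
import Mathlib.GroupTheory.Index
import Mathlib.GroupTheory.Commutator.Basic
import Mathlib.GroupTheory.QuotientGroup.Basic

set_option autoImplicit false

namespace Cfsg.Agent.DerivedLength

open Subgroup
open scoped commutatorElement

variable {G : Type*} [Group G]

/-- The lower central series of the whole group. -/
abbrev L (G : Type*) [Group G] (n : ℕ) : Subgroup G := (⊤ : Subgroup G).lowerCentralSeries n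

/-- Iterated commutators of a subgroup with the whole group. -/
def br (A : Subgroup G) : ℕ → Subgroup G
  | 0 => A
  | s + 1 => ⁅br A s, (⊤ : Subgroup G)⁆

theorem br_succ (A : Subgroup G) (s : ℕ) : br A (s + 1) = ⁅br A s, (⊤ : Subgroup G)⁆ := rfl

theorem br_top : ∀ s, br (⊤ : Subgroup G) s = L G s
  | 0 => rfl
  | s + 1 => by
    show ⁅br (⊤ : Subgroup G) s, (⊤ : Subgroup G)⁆ = _
    rw [br_top s]
    rfl

instance br_normal (A : Subgroup G) [A.Normal] : ∀ s, (br A s).Normal
  | 0 => inferInstanceAs A.Normal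
  | s + 1 => by
    haveI := br_normal A s
    exact Subgroup.commutator_normal _ _

theorem rotate {H₁ H₂ H₃ N : Subgroup G} [N.Normal] (h1 : ⁅⁅H₂, H₃⁆, H₁⁆ ≤ N)
    (h2 : ⁅⁅H₃, H₁⁆, H₂⁆ ≤ N) : ⁅⁅H₁, H₂⁆, H₃⁆ ≤ N := by
  have e : ∀ X : Subgroup G, X ≤ N ↔ X.map (QuotientGroup.mk' N) = ⊥ := fun X => by
    rw [Subgroup.map_eq_bot_iff, QuotientGroup.ker_mk']
  rw [e, Subgroup.map_commutator, Subgroup.map_commutator] at h1 h2 ⊢
  exact Subgroup.commutator_commutator_eq_bot_of_rotate h1 h2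

theorem key (A : Subgroup G) [A.Normal] :
    ∀ b a, ⁅br A a, L G b⁆ ≤ br A (a + b + 1)
  | 0, a => le_refl _
  | b + 1, a => by
    rw [Subgroup.commutator_comm]
    show ⁅⁅L G b, (⊤ : Subgroup G)⁆, br A a⁆ ≤ _
    refine rotate ?_ ?_
    · rw [Subgroup.commutator_comm ⊤ (br A a), ← br_succ]
      exact (key A b (a + 1)).trans_eq (by rw [show a + 1 + b + 1 = a + (b + 1) + 1 by omega])
    · exact Subgroup.commutator_mono (key A b a) le_rfl

theorem lcs_mul (a b : ℕ) : ⁅L G a, L G b⁆ ≤ L G (a + b + 1) := by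
  rw [← br_top, ← br_top (a + b + 1)]
  exact key ⊤ b a

theorem br_le {A : Subgroup G} {W : ℕ} (hW : A ≤ L G W) : ∀ s, br A s ≤ L G (W + s)
  | 0 => hW
  | s + 1 => Subgroup.commutator_mono (br_le hW s) le_rfl

theorem br_antitone (A : Subgroup G) [A.Normal] {s t : ℕ} (h : s ≤ t) : br A t ≤ br A s := by
  induction t, h using Nat.le_induction with
  | base => exact le_rfl
  | succ t _ ih => exact (Subgroup.commutator_le_left _ _).trans ih

theorem br_bot_of_nilpotent (A : Subgroup G) [Group.IsNilpotent G] : ∃ c, br A c = ⊥ := by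
  obtain ⟨c, hc⟩ := (Subgroup.nilpotent_iff_lowerCentralSeries (G := G)).1 inferInstance
  refine ⟨c, eq_bot_iff.2 ?_⟩
  have h := br_le (A := A) (W := 0) (le_top.trans_eq rfl) c
  rw [Nat.zero_add] at h
  exact h.trans_eq hc

/-- The descending series from `A` to its derived subgroup. -/
def B (A : Subgroup G) (s : ℕ) : Subgroup G := br A s ⊔ ⁅A, A⁆

variable {A : Subgroup G}

theorem B_zero : B A 0 = A := sup_eq_left.2 (Subgroup.commutator_le_self A)

theorem B_antitone [A.Normal] {s t : ℕ} (h : s ≤ t) : B A t ≤ B A s :=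
  sup_le_sup_right (br_antitone A h) _

theorem stall [A.Normal] [Group.IsNilpotent G] {s : ℕ} (h : B A s ≤ B A (s + 1)) :
    B A s = ⁅A, A⁆ := by
  refine le_antisymm ?_ le_sup_right
  have hk : ∀ m, br A s ≤ br A (s + m) ⊔ ⁅A, A⁆ := by
    intro m
    induction m with
    | zero => exact le_sup_left
    | succ m ih =>
      refine (le_sup_left.trans h).trans (sup_le ?_ le_sup_right)
      rw [← QuotientGroup.ker_mk' ⁅A, A⁆, ← Subgroup.comap_map_eq, ← Subgroup.map_le_iff_le_comap]
      rw [br_succ, ← Nat.add_assoc, br_succ, Subgroup.map_commutator, Subgroup.map_commutator]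
      refine Subgroup.commutator_mono ?_ le_rfl
      rw [Subgroup.map_le_iff_le_comap, Subgroup.comap_map_eq, QuotientGroup.ker_mk']
      exact ih
  obtain ⟨c, hc⟩ := br_bot_of_nilpotent A
  refine sup_le ((hk c).trans (sup_le ?_ le_rfl)) le_rfl
  exact ((br_antitone A (Nat.le_add_left c s)).trans_eq hc).trans bot_le

theorem B_ne [A.Normal] [Group.IsNilpotent G] {w s : ℕ} (hne : ⁅A, A⁆ ≠ ⊥)
    (hw : ⁅A, A⁆ ≤ br A w) (hs : s < w) : B A s ≠ ⁅A, A⁆ := by
  intro h
  have h1 : br A s ≤ ⁅A, A⁆ := sup_eq_right.1 h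
  have h2 : ∀ m, br A s ≤ br A (s + m) := by
    intro m
    induction m with
    | zero => exact le_rfl
    | succ m ih =>
      have h3 : br A s ≤ br A (s + 1) := h1.trans (hw.trans (br_antitone A hs))
      rw [br_succ] at h3
      rw [← Nat.add_assoc, br_succ]
      exact h3.trans (Subgroup.commutator_mono ih le_rfl)
  obtain ⟨c, hc⟩ := br_bot_of_nilpotent A
  apply hne
  rw [eq_bot_iff]
  exact ((hw.trans (br_antitone A hs.le)).trans (h2 c)).trans
    ((br_antitone A (Nat.le_add_left c s)).trans_eq hc)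

variable {p : ℕ} [Fact p.Prime] [Finite G]

theorem dvd_relIndex (hG : IsPGroup p G) {H K : Subgroup G} (h : ¬ K ≤ H) :
    p ∣ H.relIndex K := by
  obtain ⟨n, hn⟩ := IsPGroup.iff_card.1 (hG.to_subgroup K)
  have h2 : H.relIndex K ∣ p ^ n := hn ▸ Subgroup.relIndex_dvd_card H K
  obtain ⟨i, -, hi⟩ := (Nat.dvd_prime_pow Fact.out).1 h2
  rw [hi]
  refine dvd_pow_self p fun h0 => h (Subgroup.relIndex_eq_one.1 ?_)
  rw [hi, h0, pow_zero]

theorem chain [A.Normal] (hG : IsPGroup p G) : ∀ a m,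
    (∀ s, a ≤ s → s < a + m → ¬ B A s ≤ B A (s + 1)) → p ^ m ∣ (B A (a + m)).relIndex (B A a)
  | a, 0, _ => by simp
  | a, m + 1, h => by
    rw [← Nat.add_assoc, ← Subgroup.relIndex_mul_relIndex (B A (a + m + 1)) (B A (a + m)) (B A a)
      (B_antitone (by omega)) (B_antitone (by omega)), pow_succ']
    exact Nat.mul_dvd_mul (dvd_relIndex hG (h (a + m) (by omega) (by omega)))
      (chain hG a m fun s h1 h2 => h s h1 (by omega))

/-- `A` is cyclic modulo the first step. -/
def Cyc (A : Subgroup G) : Prop := ∃ a ∈ A, A ≤ Subgroup.zpowers a ⊔ B A 1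

theorem cyc_step [A.Normal] {W : ℕ} (hW : A ≤ L G W) (hc : Cyc A) :
    ⁅A, A⁆ ≤ br A (W + 2) ∧ ⁅A, A⁆ ≤ L G (2 * W + 2) := by
  obtain ⟨a, ha, hle⟩ := hc
  have hB1 : B A 1 ≤ L G (W + 1) :=
    sup_le (br_le hW 1) (((Subgroup.commutator_mono hW hW).trans (lcs_mul W W)).trans
      ((⊤ : Subgroup G).lowerCentralSeries_antitone (by omega)))
  have hmain : ⁅A, A⁆ ≤ ⁅A, L G (W + 1)⁆ := by
    rw [← QuotientGroup.ker_mk' ⁅A, L G (W + 1)⁆, ← Subgroup.map_eq_bot_iff, Subgroup.map_commutator,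
      Subgroup.commutator_eq_bot_iff_le_centralizer]
    set q := QuotientGroup.mk' ⁅A, L G (W + 1)⁆
    have hB1c : (B A 1).map q ≤ Subgroup.centralizer (A.map q : Set _) := by
      rw [← Subgroup.commutator_eq_bot_iff_le_centralizer, ← Subgroup.map_commutator,
        Subgroup.map_eq_bot_iff, QuotientGroup.ker_mk', Subgroup.commutator_comm]
      exact Subgroup.commutator_mono le_rfl hB1
    have hB1A : B A 1 ≤ A := (B_antitone (Nat.zero_le 1)).trans_eq B_zero
    refine (Subgroup.map_mono hle).trans ?_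
    rw [Subgroup.map_sup, MonoidHom.map_zpowers]
    refine sup_le ?_ hB1c
    rw [Subgroup.zpowers_le, Subgroup.mem_centralizer_iff]
    rintro _ ⟨x, hx, rfl⟩
    have hx' := Subgroup.map_mono hle (Subgroup.mem_map_of_mem q hx)
    rw [Subgroup.map_sup, MonoidHom.map_zpowers] at hx'
    have hsub : Subgroup.zpowers (q a) ⊔ (B A 1).map q ≤ Subgroup.centralizer {q a} := by
      refine sup_le ?_ ?_
      · rw [Subgroup.zpowers_le, Subgroup.mem_centralizer_iff]
        rintro _ rfl
        rfl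
      · intro y hy
        rw [Subgroup.mem_centralizer_iff]
        rintro _ rfl
        exact Subgroup.mem_centralizer_iff.1 (hB1c hy) _ (Subgroup.mem_map_of_mem q ha)
    exact ((Subgroup.mem_centralizer_iff.1 (hsub hx')) _ rfl).symm
  exact ⟨hmain.trans ((key A (W + 1) 0).trans_eq (by rw [show 0 + (W + 1) + 1 = W + 2 by omega])),
    hmain.trans ((Subgroup.commutator_mono hW le_rfl).trans ((lcs_mul W (W + 1)).trans
      ((⊤ : Subgroup G).lowerCentralSeries_antitone (by omega))))⟩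

theorem exists_sup_eq_of_prime {H K : Subgroup G} (hHK : H ≤ K) (h : (H.relIndex K).Prime ∨ H.relIndex K = 1) :
    ∃ a ∈ K, K ≤ Subgroup.zpowers a ⊔ H := by
  by_cases hle : K ≤ H
  · exact ⟨1, one_mem K, hle.trans le_sup_right⟩
  obtain ⟨a, ha, haH⟩ := SetLike.not_le_iff_exists.1 hle
  refine ⟨a, ha, ?_⟩
  set M := Subgroup.zpowers a ⊔ H
  have hMK : M ≤ K := sup_le (Subgroup.zpowers_le.2 ha) hHK
  have hp : (H.relIndex K).Prime := h.resolve_right fun e => hle (Subgroup.relIndex_eq_one.1 e)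
  have e := Subgroup.relIndex_mul_relIndex H M K le_sup_right hMK
  rcases (Nat.dvd_prime hp).1 ⟨_, e.symm⟩ with h1 | h1
  · exact absurd (Subgroup.relIndex_eq_one.1 h1 (Subgroup.mem_sup_left (Subgroup.mem_zpowers a))) haH
  · rw [h1] at e
    refine Subgroup.relIndex_eq_one.1 ?_
    exact (Nat.mul_eq_left hp.ne_zero).1 e

theorem ncyc_dvd (hG : IsPGroup p G) [A.Normal] (hc : ¬ Cyc A) : p ^ 2 ∣ (B A 1).relIndex A := by
  obtain ⟨n, hn⟩ := IsPGroup.iff_card.1 (hG.to_subgroup A)
  have h2 : (B A 1).relIndex A ∣ p ^ n := hn ▸ Subgroup.relIndex_dvd_card _ _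
  obtain ⟨i, -, hi⟩ := (Nat.dvd_prime_pow Fact.out).1 h2
  rw [hi]
  refine Nat.pow_dvd_pow p ?_
  by_contra hlt
  refine hc (exists_sup_eq_of_prime ((B_antitone (Nat.zero_le 1)).trans_eq B_zero) ?_)
  rcases Nat.lt_or_ge i 1 with h | h
  · exact Or.inr (by rw [hi, show i = 0 by omega, pow_zero])
  · exact Or.inl (by rw [hi, show i = 1 by omega, pow_one]; exact Fact.out)

/-- The size of one section. -/
theorem section_bound (hG : IsPGroup p G) [A.Normal] {W : ℕ} (hW : A ≤ L G W)
    (hne : ⁅A, A⁆ ≠ ⊥) :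
    p ^ (W + 2) ∣ ⁅A, A⁆.relIndex A ∧ (Cyc A ∨ p ^ (W + 3) ∣ ⁅A, A⁆.relIndex A ∨ Cyc ⁅A, A⁆) := by
  haveI := hG.isNilpotent
  have hw1 : ⁅A, A⁆ ≤ br A (W + 1) :=
    (Subgroup.commutator_mono le_rfl hW).trans
      ((key A W 0).trans_eq (by rw [Nat.zero_add]))
  have hstrict : ∀ w, ⁅A, A⁆ ≤ br A w → ∀ s < w, ¬ B A s ≤ B A (s + 1) :=
    fun w hw s hs h => B_ne hne hw hs (stall h)
  have hdiv : ∀ w, (B A w).relIndex A ∣ ⁅A, A⁆.relIndex A := fun w =>
    Subgroup.relIndex_dvd_of_le_left A le_sup_right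
  by_cases hc : Cyc A
  · refine ⟨?_, Or.inl hc⟩
    have h := chain hG 0 (W + 2) fun s _ hs => hstrict _ (cyc_step hW hc).1 s (by omega)
    rw [Nat.zero_add, B_zero] at h
    exact h.trans (hdiv _)
  · have hch := chain hG 1 W fun s _ hs => hstrict _ hw1 s (by omega)
    have h0 : p ^ (W + 2) ∣ (B A (W + 1)).relIndex A := by
      rw [← Subgroup.relIndex_mul_relIndex (B A (W + 1)) (B A 1) A (B_antitone (by omega))
        ((B_antitone (Nat.zero_le 1)).trans_eq B_zero), pow_add, Nat.add_comm W 1]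
      exact Nat.mul_dvd_mul hch (ncyc_dvd hG hc)
    refine ⟨h0.trans (hdiv _), Or.inr ?_⟩
    by_cases hdef : p ^ (W + 3) ∣ ⁅A, A⁆.relIndex A
    · exact Or.inl hdef
    right
    -- the deficient case
    have hBw : B A (W + 1) = ⁅A, A⁆ := by
      refine le_antisymm ?_ le_sup_right
      by_contra hle
      apply hdef
      rw [← Subgroup.relIndex_mul_relIndex ⁅A, A⁆ (B A (W + 1)) A le_sup_right
        ((B_antitone (Nat.zero_le _)).trans_eq B_zero), pow_succ']
      exact Nat.mul_dvd_mul (dvd_relIndex hG hle) h0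
    have hA' : ⁅A, A⁆ = br A (W + 1) := le_antisymm hw1 (sup_eq_right.1 hBw)
    obtain ⟨n, hn⟩ := IsPGroup.iff_card.1 (hG.to_subgroup A)
    obtain ⟨i, -, hi⟩ := (Nat.dvd_prime_pow Fact.out).1
      (show (B A 1).relIndex A ∣ p ^ n from hn ▸ Subgroup.relIndex_dvd_card _ _)
    have hi2 : i ≤ 2 := by
      by_contra hlt
      apply hdef
      refine Dvd.dvd.trans ?_ (hdiv (W + 1))
      rw [← Subgroup.relIndex_mul_relIndex (B A (W + 1)) (B A 1) A (B_antitone (by omega))
        ((B_antitone (Nat.zero_le 1)).trans_eq B_zero), pow_add, Nat.add_comm W 1, hi]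
      exact Nat.mul_dvd_mul hch (Nat.pow_dvd_pow p (by omega))
    have hB1A : B A 1 ≤ A := (B_antitone (Nat.zero_le 1)).trans_eq B_zero
    have hnle : ¬ A ≤ B A 1 := fun h => hc ⟨1, one_mem A, h.trans le_sup_right⟩
    obtain ⟨a, ha, haB⟩ := SetLike.not_le_iff_exists.1 hnle
    set M := Subgroup.zpowers a ⊔ B A 1 with hM
    have hMA : M ≤ A := sup_le (Subgroup.zpowers_le.2 ha) hB1A
    have hprod := Subgroup.relIndex_mul_relIndex (B A 1) M A le_sup_right hMA
    have hMp : M.relIndex A ∣ p := by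
      have h1 : p ∣ (B A 1).relIndex M := dvd_relIndex hG
        fun h => haB (h (Subgroup.mem_sup_left (Subgroup.mem_zpowers a)))
      have h2 : p * M.relIndex A ∣ p ^ 2 :=
        (Nat.mul_dvd_mul h1 dvd_rfl).trans (hprod.trans hi ▸ Nat.pow_dvd_pow p hi2)
      rw [pow_two] at h2
      exact Nat.dvd_of_mul_dvd_mul_left (Nat.Prime.pos Fact.out) h2
    obtain ⟨b, hb, hAb⟩ := exists_sup_eq_of_prime hMA (by
      rcases (Nat.dvd_prime Fact.out).1 hMp with h | h
      · exact Or.inr h
      · exact Or.inl (h ▸ Fact.out))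
    refine ⟨⁅a, b⁆, Subgroup.commutator_mem_commutator ha hb, ?_⟩
    set C := ⁅A, A⁆ with hC
    set N := Subgroup.zpowers ⁅a, b⁆ ⊔ B C 1 with hN
    have hCn : ⁅C, (⊤ : Subgroup G)⁆ ≤ N := le_sup_left.trans le_sup_right
    have hNC : N ≤ C := sup_le (Subgroup.zpowers_le.2 (Subgroup.commutator_mem_commutator ha hb))
      ((B_antitone (Nat.zero_le 1)).trans_eq B_zero)
    haveI : N.Normal := by
      refine ⟨fun x hx g => ?_⟩
      have h : ⁅x, g⁆ ∈ N := hCn (Subgroup.commutator_mem_commutator (hNC hx) (Subgroup.mem_top g))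
      have e : g * x * g⁻¹ = ⁅x, g⁆⁻¹ * x := by simp [commutatorElement_def, mul_assoc]
      rw [e]
      exact mul_mem (inv_mem h) hx
    rw [← QuotientGroup.ker_mk' N, hC, ← Subgroup.map_eq_bot_iff, Subgroup.map_commutator,
      Subgroup.commutator_eq_bot_iff_le_centralizer]
    set q := QuotientGroup.mk' N
    have hW1 : B A 1 ≤ L G (W + 1) :=
      sup_le (br_le hW 1) (((Subgroup.commutator_mono hW hW).trans (lcs_mul W W)).trans
        ((⊤ : Subgroup G).lowerCentralSeries_antitone (by omega)))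
    have hcent : ⁅A, B A 1⁆ ≤ N := by
      refine (Subgroup.commutator_mono le_rfl hW1).trans ((key A (W + 1) 0).trans ?_)
      rw [show 0 + (W + 1) + 1 = (W + 1) + 1 by omega, br_succ, ← hA']
      exact hCn
    have hB1c : (B A 1).map q ≤ Subgroup.centralizer (A.map q : Set _) := by
      rw [← Subgroup.commutator_eq_bot_iff_le_centralizer, ← Subgroup.map_commutator,
        Subgroup.map_eq_bot_iff, QuotientGroup.ker_mk', Subgroup.commutator_comm]
      exact hcent
    have hab : q a * q b = q b * q a := by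
      rw [← commutatorElement_eq_one_iff_mul_comm, ← map_commutatorElement,
        ← MonoidHom.mem_ker, QuotientGroup.ker_mk']
      exact Subgroup.mem_sup_left (Subgroup.mem_zpowers _)
    have hAgen : A.map q ≤ Subgroup.zpowers (q b) ⊔ (Subgroup.zpowers (q a) ⊔ (B A 1).map q) := by
      have := Subgroup.map_mono (f := q) hAb
      rwa [Subgroup.map_sup, hM, Subgroup.map_sup, MonoidHom.map_zpowers, MonoidHom.map_zpowers] at this
    have hcomm : ∀ y, y ∈ ({a, b} : Set G) → q y ∈ Subgroup.centralizer (A.map q : Set _) := by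
      intro y hy
      have hyA : y ∈ A := by rcases hy with rfl | rfl <;> assumption
      have hsub : Subgroup.zpowers (q b) ⊔ (Subgroup.zpowers (q a) ⊔ (B A 1).map q) ≤
          Subgroup.centralizer {q y} := by
        refine sup_le ?_ (sup_le ?_ ?_)
        · rw [Subgroup.zpowers_le, Subgroup.mem_centralizer_iff]
          rintro _ rfl
          rcases hy with rfl | rfl
          · exact hab
          · rfl
        · rw [Subgroup.zpowers_le, Subgroup.mem_centralizer_iff]
          rintro _ rfl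
          rcases hy with rfl | rfl
          · rfl
          · exact hab.symm
        · intro z hz
          rw [Subgroup.mem_centralizer_iff]
          rintro _ rfl
          exact Subgroup.mem_centralizer_iff.1 (hB1c hz) _ (Subgroup.mem_map_of_mem q hyA)
      rw [Subgroup.mem_centralizer_iff]
      intro z hz
      exact ((Subgroup.mem_centralizer_iff.1 (hsub (hAgen hz))) _ rfl).symm
    refine hAgen.trans (sup_le ?_ (sup_le ?_ hB1c))
    · exact Subgroup.zpowers_le.2 (hcomm b (Or.inr rfl))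
    · exact Subgroup.zpowers_le.2 (hcomm a (Or.inl rfl))

end Cfsg.Agent.DerivedLength
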